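import Groth.Agent.H8.SpaceMV.Square
import Groth.Agent.H8.EDSMain
import Groth.Agent.S10766
import Mathlib.Algebra.Homology.DerivedCategory.Ext.ExactSequences

/-!
# Cohomological bound for quasi-coherent modules on quasi-compact quasi-separated spaces
-/

set_option autoImplicit false
set_option backward.isDefEq.respectTransparency false
set_option backward.isDefEq.respectTransparency.types false
set_option linter.style.haveILetI false

universe u

open CategoryTheory CategoryTheory.Limits AlgebraicGeometry Opposite AlgSp Abelian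

namespace Groth.Agent.H8.SpaceMV

/-- Vanishing of Ext out of the third term of a short exact sequence with a biproduct in the middle. -/
theorem subsingleton_ext_X₃ {A : Type*} [Category A] [Abelian A] [HasExt.{u + 1} A] {P Q R T G : A}
    {l : P ⟶ Q ⊞ R} {d : Q ⊞ R ⟶ T} {h : l ≫ d = 0} (hS : (ShortComplex.mk l d h).ShortExact) (m : ℕ)
    (hP : Subsingleton (Ext.{u + 1} P G m)) (hQ : Subsingleton (Ext.{u + 1} Q G (m + 1)))
    (hR : Subsingleton (Ext.{u + 1} R G (m + 1))) : Subsingleton (Ext.{u + 1} T G (m + 1)) := by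
  refine subsingleton_of_forall_eq 0 fun x => ?_
  have h0 : ∀ y : Ext.{u + 1} (Q ⊞ R) G (m + 1), y = 0 := fun y => by
    have e : y = (Ext.mk₀ biprod.fst).comp ((Ext.mk₀ biprod.inl).comp y (zero_add _)) (zero_add _) +
        (Ext.mk₀ biprod.snd).comp ((Ext.mk₀ biprod.inr).comp y (zero_add _)) (zero_add _) := by
      rw [Ext.mk₀_comp_mk₀_assoc, Ext.mk₀_comp_mk₀_assoc, ← Ext.add_comp, ← Ext.mk₀_add, biprod.total,
        Ext.mk₀_id_comp]
    rw [e, hQ.elim ((Ext.mk₀ biprod.inl).comp y (zero_add _)) 0,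
      hR.elim ((Ext.mk₀ biprod.inr).comp y (zero_add _)) 0, Ext.comp_zero, Ext.comp_zero, add_zero]
  obtain ⟨y, rfl⟩ := Ext.contravariant_sequence_exact₃ hS G x (h0 _) (n₀ := m) (by omega)
  rw [hP.elim y 0, Ext.comp_zero]

variable {S : Scheme.{u}}

/-- The free sheaf of an object of the site of spaces. -/
noncomputable abbrev ZSp {X : Space S} (W : EtSpOver X) : AbEt X.obj := Z W.obj.hom.hom

/-- The free sheaf on the space is the constant sheaf. -/
noncomputable def ZIdIso (X : Sp S) : Z (𝟙 X) ≅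
    (constantSheaf (etTop X) AddCommGrpCat.{u + 1}).obj (AddCommGrpCat.of (ULift.{u + 1} ℤ)) :=
  haveI : ∀ E : (EtOver X)ᵒᵖ, Unique ((hPsh (𝟙 X)).obj E) := fun E =>
    { default := ⟨E.unop.obj.hom, Category.comp_id _⟩
      uniq := fun g => Subtype.ext ((Category.comp_id g.1).symm.trans g.2) }
  (presheafToSheaf (etTop X) AddCommGrpCat.{u + 1}).mapIso
    (NatIso.ofComponents (fun E =>
      ((FreeAbelianGroup.uniqueEquiv ((hPsh (𝟙 X)).obj E)).trans AddEquiv.ulift.symm).toAddCommGrpIso)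
      fun {E E'} k => AddCommGrpCat.hom_ext (FreeAbelianGroup.lift_ext _ _ fun g => by
        have h1 : ∀ (F : (EtOver X)ᵒᵖ) (g : (hPsh (𝟙 X)).obj F),
            FreeAbelianGroup.uniqueEquiv _ (FreeAbelianGroup.of g) = (1 : ℤ) := fun F g => by
          simp [FreeAbelianGroup.uniqueEquiv]
        have h2 : (freePsh (𝟙 X)).map k (gen g) = gen ((hPsh (𝟙 X)).map k g) :=
          FreeAbelianGroup.map_of_apply _
        exact ((congrArg (fun z => AddEquiv.ulift.symm (FreeAbelianGroup.uniqueEquiv _ z)) h2).trans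
          (congrArg AddEquiv.ulift.symm ((h1 _ _).trans (h1 E g).symm)))))

/-- The bound on a space. -/
theorem exists_bound [QuasiSeparatedSpace ↥S] (X : Space S)
    (hqc : IsQuasiCompactSp X.obj) (hqs : IsQuasiSeparatedSp X.obj) :
    ∀ W : EtSpOver X, IsQuasiCompactSp W.obj.left.obj → IsQuasiSeparatedSp W.obj.left.obj →
      ∃ n : ℕ, ∀ G : AbEt X.obj, QCohVanish.Good (QCohVanish.covers X.obj) G → ∀ m : ℕ, n ≤ m →
        Subsingleton (Ext.{u + 1} (ZSp W) G (m + 1)) := by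
  refine Groth.Agent.S10766.result X hqc hqs
    (fun W => ∃ n : ℕ, ∀ G : AbEt X.obj, QCohVanish.Good (QCohVanish.covers X.obj) G → ∀ m : ℕ, n ≤ m →
      Subsingleton (Ext.{u + 1} (ZSp W) G (m + 1))) ?_ ?_
  · rintro W T hT ⟨e⟩
    exact ⟨0, fun G hG m _ => subsingleton_ext_of_affine _ hT e
      (W.property e.hom (MorphismProperty.of_isIso (RepWith (S := S) @Etale) e.hom)) hG m⟩
  · rintro W U V UV j f p q - - - ⟨T, hT, ⟨e⟩⟩ hsq hP ⟨nU, hU⟩ ⟨nV, hV⟩ ⟨nP, hPn⟩
    refine ⟨max (max nU nV) (nP + 1), fun G hG m hm => ?_⟩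
    have hm' : nU ≤ m ∧ nV ≤ m ∧ nP + 1 ≤ m := by omega
    obtain ⟨k, rfl⟩ : ∃ k, m = k + 1 := ⟨m - 1, by omega⟩
    obtain ⟨h, hS⟩ := shortExact_Z (congrArg (fun g => g.hom) (Over.w j.hom))
      (congrArg (fun g => g.hom) (Over.w f.hom)) (congrArg (fun g => g.hom) (Over.w p.hom))
      (congrArg (fun g => g.hom) (Over.w q.hom)) hsq hP e V.obj.left.property W.obj.left.property
    exact subsingleton_ext_X₃ hS (k + 1) (hPn G hG k (by omega)) (hU G hG _ hm'.1) (hV G hG _ hm'.2.1)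

/-- Quasi-coherent modules on a quasi-compact quasi-separated space have bounded cohomology. -/
theorem exists_bound_hModEt [QuasiSeparatedSpace ↥S] (X : Space S)
    (hqc : IsQuasiCompactSp X.obj) (hqs : IsQuasiSeparatedSp X.obj) :
    ∃ n : ℕ, ∀ M : ModEt X.obj, M.IsQuasicoherent → ∀ q : ℕ, n ≤ q →
      Subsingleton (HModEt X.obj M q) := by
  let W₀ : EtSpOver X := ⟨Over.mk (𝟙 X), fun T φ hφ => by
    exact Eq.mpr (congrArg (fun g => RepWith @Etale g) (Category.comp_id φ)) hφ⟩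
  obtain ⟨n, hn⟩ := exists_bound X hqc hqs W₀ hqc hqs
  refine ⟨n + 1, fun M hM q hq => ?_⟩
  obtain ⟨m, rfl⟩ : ∃ m, q = m + 1 := ⟨q - 1, by omega⟩
  haveI := hM
  have hsub := hn _ (QCohVanish.good_of_isCart M (Lib.EtMod.isCart_of_isQuasicoherent _)) m (by omega)
  refine subsingleton_of_forall_eq 0 fun x => ?_
  have h : (Ext.mk₀ (ZIdIso X.obj).hom).comp x (zero_add _) = 0 :=
    @Subsingleton.elim _ hsub _ _
  rw [← Ext.mk₀_id_comp x, ← (ZIdIso X.obj).inv_hom_id, ← Ext.mk₀_comp_mk₀_assoc, h, Ext.comp_zero]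

end Groth.Agent.H8.SpaceMV
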