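import Groth.Agent.H8.QCohVanish.Vanish
import Groth.Agent.Lib.EtMod.WeakAss
import Groth.Agent.Lib.AlgSpEDS.Basic
import Mathlib.CategoryTheory.Sites.LeftExact
import Mathlib.GroupTheory.FreeAbelianGroup

/-!
# Free abelian sheaves on spaces etale over a space
-/

set_option autoImplicit false
set_option backward.isDefEq.respectTransparency false
set_option backward.isDefEq.respectTransparency.types false
set_option linter.style.haveILetI false

universe u

open CategoryTheory CategoryTheory.Limits AlgebraicGeometry Opposite AlgSp Abelian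

namespace Groth.Agent.H8.SpaceMV

variable {S : Scheme.{u}} {X : Sp S} {W W' W'' : Sp S}

/-- The maps to a sheaf over the space, as a presheaf on the small etale site. -/
noncomputable def hPsh (π : W ⟶ X) : (EtOver X)ᵒᵖ ⥤ Type (u + 1) where
  obj E := {g : (yon S).obj E.unop.obj.left ⟶ W // g ≫ π = E.unop.obj.hom}
  map k := ↾fun g => ⟨(yon S).map k.unop.hom.left ≫ g.1, by
    rw [Category.assoc, g.2]; exact EtOver.w k.unop⟩
  map_id E := by
    refine ConcreteCategory.hom_ext _ _ fun g => ?_
    exact Subtype.ext ((congrArg (· ≫ g.1) ((yon S).map_id _)).trans (Category.id_comp _))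
  map_comp k l := by
    refine ConcreteCategory.hom_ext _ _ fun g => ?_
    exact Subtype.ext ((congrArg (· ≫ g.1) ((yon S).map_comp _ _)).trans (Category.assoc _ _ _))

/-- Functoriality. -/
noncomputable def hMap {π : W ⟶ X} {π' : W' ⟶ X} (v : W ⟶ W') (hv : v ≫ π' = π) : hPsh π ⟶ hPsh π' where
  app E := ↾fun g => ⟨g.1 ≫ v, by rw [Category.assoc, hv, g.2]⟩
  naturality E E' k := by
    refine ConcreteCategory.hom_ext _ _ fun g => ?_
    exact Subtype.ext (Category.assoc _ _ _)

/-- The free abelian presheaf. -/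
noncomputable abbrev freePsh (π : W ⟶ X) : (EtOver X)ᵒᵖ ⥤ AddCommGrpCat.{u + 1} :=
  hPsh π ⋙ AddCommGrpCat.free.{u + 1}

/-- The free abelian sheaf. -/
noncomputable def Z (π : W ⟶ X) : AbEt X :=
  (presheafToSheaf (etTop X) AddCommGrpCat.{u + 1}).obj (freePsh π)

/-- Functoriality of the free abelian sheaf. -/
noncomputable def ZMap {π : W ⟶ X} {π' : W' ⟶ X} (v : W ⟶ W') (hv : v ≫ π' = π) : Z π ⟶ Z π' :=
  (presheafToSheaf (etTop X) AddCommGrpCat.{u + 1}).map
    (Functor.whiskerRight (hMap v hv) AddCommGrpCat.free.{u + 1})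

theorem mono_free_map {A B : Type (u + 1)} (φ : A ⟶ B) (hφ : Function.Injective φ) :
    Mono (AddCommGrpCat.free.{u + 1}.map φ) := by
  classical
  rw [AddCommGrpCat.mono_iff_injective]
  by_cases hA : Nonempty A
  · haveI := hA
    intro a b hab
    have h : ∀ z, FreeAbelianGroup.map (Function.invFun φ) (FreeAbelianGroup.map (φ : A → B) z) = z :=
      fun z => by
        rw [← FreeAbelianGroup.map_comp_apply, (Function.invFun_comp hφ), FreeAbelianGroup.map_id_apply]
    exact (h a).symm.trans ((congrArg (FreeAbelianGroup.map (Function.invFun φ)) hab).trans (h b))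
  · haveI : IsEmpty A := not_nonempty_iff.1 hA
    intro a b _
    have h : ∀ z : FreeAbelianGroup A, z = 0 := fun z => by
      have := FreeAbelianGroup.lift_ext (AddMonoidHom.id (FreeAbelianGroup A)) 0 fun x => isEmptyElim x
      exact DFunLike.congr_fun this z
    exact (h a).trans (h b).symm

theorem mono_ZMap {π : W ⟶ X} {π' : W' ⟶ X} (v : W ⟶ W') (hv : v ≫ π' = π) [Mono v] :
    Mono (ZMap v hv) := by
  haveI : ∀ E, Mono ((Functor.whiskerRight (hMap v hv) AddCommGrpCat.free.{u + 1}).app E) := fun E =>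
    mono_free_map ((hMap v hv).app E) fun g g' h =>
      Subtype.ext ((cancel_mono v).1 (congrArg Subtype.val h))
  haveI := NatTrans.mono_of_mono_app (Functor.whiskerRight (hMap v hv) AddCommGrpCat.free.{u + 1})
  exact (presheafToSheaf (etTop X) AddCommGrpCat.{u + 1}).map_mono _

/-- Natural families of sections indexed by maps into the space. -/
@[ext]
structure Fam (π : W ⟶ X) (F : AbEt X) where
  /-- the values -/
  app : ∀ E : EtOver X, (hPsh π).obj (op E) → F.obj.obj (op E)
  naturality : ∀ {E E' : EtOver X} (k : E' ⟶ E) (g : (hPsh π).obj (op E)),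
    app E' ((hPsh π).map k.op g) = F.obj.map k.op (app E g)

theorem Fam.congr {π : W ⟶ X} {F : AbEt X} (a : Fam π F) {E : EtOver X} {g g' : (hPsh π).obj (op E)}
    (h : g.1 = g'.1) : a.app E g = a.app E g' := by
  rw [Subtype.ext h]

/-- Pulling back families. -/
noncomputable def Fam.comap {π : W ⟶ X} {π' : W' ⟶ X} {F : AbEt X} (v : W ⟶ W') (hv : v ≫ π' = π) (b : Fam π' F) :
    Fam π F where
  app E g := b.app E ((hMap v hv).app (op E) g)
  naturality k g := (b.congr (Category.assoc _ _ _)).trans (b.naturality k _)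

/-- The generator of a map. -/
noncomputable def gen {π : W ⟶ X} {E : (EtOver X)ᵒᵖ} (g : (hPsh π).obj E) : (freePsh π).obj E :=
  FreeAbelianGroup.of g

/-- Maps out of the free presheaf. -/
noncomputable def pshEquiv (π : W ⟶ X) (F : AbEt X) : (freePsh π ⟶ F.obj) ≃ Fam π F where
  toFun η :=
    { app := fun E g => η.app (op E) (gen g)
      naturality := fun {E E'} k g =>
        (congrArg (η.app (op E')) (FreeAbelianGroup.map_of_apply (f := (hPsh π).map k.op) g).symm).trans
          (ConcreteCategory.congr_hom (η.naturality k.op) (gen g)) }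
  invFun a :=
    { app := fun E => AddCommGrpCat.ofHom (FreeAbelianGroup.lift (a.app E.unop))
      naturality := fun E E' k => AddCommGrpCat.hom_ext (FreeAbelianGroup.lift_ext _ _ fun g => by
        have h1 : FreeAbelianGroup.lift (a.app E'.unop) ((freePsh π).map k (gen g)) =
            a.app E'.unop ((hPsh π).map k g) :=
          (congrArg _ (FreeAbelianGroup.map_of_apply (f := (hPsh π).map k) g)).trans
            (FreeAbelianGroup.lift_apply_of _ _)
        exact h1.trans ((a.naturality k.unop g).trans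
          (congrArg (F.obj.map k) (FreeAbelianGroup.lift_apply_of (a.app E.unop) g).symm))) }
  left_inv η := by
    ext E : 2
    exact AddCommGrpCat.hom_ext (FreeAbelianGroup.lift_ext _ _ fun g =>
      FreeAbelianGroup.lift_apply_of _ g)
  right_inv a := by
    ext E g
    exact FreeAbelianGroup.lift_apply_of _ g

/-- Maps out of the free sheaf. -/
noncomputable def famEquiv (π : W ⟶ X) (F : AbEt X) : (Z π ⟶ F) ≃ Fam π F :=
  ((sheafificationAdjunction (etTop X) AddCommGrpCat.{u + 1}).homEquiv (freePsh π) F).trans (pshEquiv π F)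

theorem famEquiv_comp {π : W ⟶ X} {F F' : AbEt X} (f : Z π ⟶ F) (φ : F ⟶ F') (E : EtOver X)
    (g : (hPsh π).obj (op E)) :
    (famEquiv π F' (f ≫ φ)).app E g = φ.hom.app (op E) ((famEquiv π F f).app E g) := by
  change ((sheafificationAdjunction (etTop X) AddCommGrpCat.{u + 1}).homEquiv _ _ (f ≫ φ)).app (op E) (gen g) = _
  rw [Adjunction.homEquiv_naturality_right]
  rfl

theorem famEquiv_ZMap {π : W ⟶ X} {π' : W' ⟶ X} (v : W ⟶ W') (hv : v ≫ π' = π) {F : AbEt X}
    (f : Z π' ⟶ F) : famEquiv π F (ZMap v hv ≫ f) = (famEquiv π' F f).comap v hv := by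
  ext E g
  change ((sheafificationAdjunction (etTop X) AddCommGrpCat.{u + 1}).homEquiv _ _ (ZMap v hv ≫ f)).app
    (op E) (gen g) = _
  rw [ZMap, Adjunction.homEquiv_naturality_left]
  exact congrArg (((sheafificationAdjunction (etTop X) AddCommGrpCat.{u + 1}).homEquiv _ _ f).app (op E))
    (FreeAbelianGroup.map_of_apply (f := (hMap v hv).app (op E)) g)

variable (π : W ⟶ X)

/-- Good sheaves have no higher Ext out of free sheaves on affine objects. -/
theorem subsingleton_ext_of_affine [HasExt.{u + 1} (AbEt X)] {T : Over S} (hT : IsAffine T.left)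
    (e : (yon S).obj T ≅ W) (hπ : RepWith @Etale (e.hom ≫ π))
    {G : AbEt X} (hG : QCohVanish.Good (QCohVanish.covers X) G) (n : ℕ) :
    Subsingleton (Ext.{u + 1} (Z π) G (n + 1)) := by
  refine subsingleton_of_forall_eq 0 fun α => ?_
  let E₀ : EtOver X := EtOver.mk (e.hom ≫ π) hπ
  let g₀ : (hPsh π).obj (op E₀) := ⟨e.hom, rfl⟩
  have hev : ∀ {F : AbEt X} (a b : Fam π F), a.app E₀ g₀ = b.app E₀ g₀ → a = b := fun {F} a b h => by
    ext E g
    let k : E ⟶ E₀ := EtOver.homMk ((yon S).preimage (g.1 ≫ e.inv)) (by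
      change (yon S).map _ ≫ e.hom ≫ π = E.obj.hom
      rw [Functor.map_preimage, Category.assoc, Iso.inv_hom_id_assoc, g.2])
    have hk : (hPsh π).map k.op g₀ = g := Subtype.ext (by
      change (yon S).map k.hom.left ≫ e.hom = g.1
      rw [show (yon S).map k.hom.left = g.1 ≫ e.inv from Functor.map_preimage _ _, Category.assoc,
        Iso.inv_hom_id, Category.comp_id])
    rw [← hk, a.naturality, b.naturality, h]
  let R := injectiveResolution G
  obtain ⟨f, hf, rfl⟩ := R.extMk_surjective α (n + 2) rfl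
  rw [R.extMk_eq_zero_iff f (n + 2) rfl hf n rfl]
  obtain ⟨y, hy⟩ := QCohVanish.exists_eq_d R hG (U := E₀) hT n ((famEquiv π _ f).app E₀ g₀) (by
    rw [← famEquiv_comp, hf]
    change ((sheafificationAdjunction (etTop X) AddCommGrpCat.{u + 1}).homEquiv _ _ 0).app (op E₀) (gen g₀) = _
    rw [Adjunction.homEquiv_unit, Functor.map_zero, comp_zero]
    rfl)
  let a : Fam π ((R.cocomplex).X n) :=
    { app := fun E g => (R.cocomplex.X n).obj.map (show E ⟶ E₀ from
        EtOver.homMk ((yon S).preimage (g.1 ≫ e.inv)) (by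
          change (yon S).map _ ≫ e.hom ≫ π = E.obj.hom
          rw [Functor.map_preimage, Category.assoc, Iso.inv_hom_id_assoc, g.2])).op y
      naturality := fun {E E'} k g => by
        rw [← ConcreteCategory.comp_apply, ← Functor.map_comp, ← op_comp]
        refine congrArg (fun l : E' ⟶ E₀ => (R.cocomplex.X n).obj.map l.op y)
          (EtOver.hom_ext _ _ ((yon S).map_injective ?_))
        refine (Functor.map_preimage _ _).trans ?_
        rw [show ((hPsh π).map k.op g).1 = (yon S).map k.hom.left ≫ g.1 from rfl, Category.assoc]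
        exact ((congrArg ((yon S).map k.hom.left ≫ ·) (Functor.map_preimage (yon S) (g.1 ≫ e.inv)).symm)).trans
          ((yon S).map_comp _ _).symm }
  refine ⟨(famEquiv π _).symm a, (famEquiv π _).injective (hev _ _ ?_)⟩
  rw [famEquiv_comp, Equiv.apply_symm_apply]
  refine Eq.trans ?_ hy
  refine congrArg ((R.cocomplex.d n (n + 1)).hom.app (op E₀)) ?_
  change (R.cocomplex.X n).obj.map _ y = y
  refine (congrArg (fun l : E₀ ⟶ E₀ => (R.cocomplex.X n).obj.map l.op y)
    (EtOver.hom_ext _ (𝟙 E₀) ((yon S).map_injective ?_))).trans ?_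
  · refine (Functor.map_preimage _ _).trans ?_
    change e.hom ≫ e.inv = (yon S).map (𝟙 _)
    rw [Iso.hom_inv_id, CategoryTheory.Functor.map_id]
  · rw [op_id, CategoryTheory.Functor.map_id]
    rfl

end Groth.Agent.H8.SpaceMV
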