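import Groth.Agent.H8.SpaceMV.Free

/-!
# The Mayer-Vietoris sequence of free sheaves of an elementary distinguished square
-/

set_option autoImplicit false
set_option backward.isDefEq.respectTransparency false
set_option backward.isDefEq.respectTransparency.types false
set_option linter.style.haveILetI false

universe u

open CategoryTheory CategoryTheory.Limits AlgebraicGeometry Opposite AlgSp Abelian
open Groth.Agent.Lib.AlgSpace

namespace Groth.Agent.H8.SpaceMV

variable {S : Scheme.{u}} {X : Sp S}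

/-- An etale morphism of schemes into an object gives an object. -/
theorem exists_etale_obj (E : EtOver X) {A : Over S} (o : A ⟶ E.obj.left) (ho : Etale o.left) :
    ∃ (Z : EtOver X) (q : Z ⟶ E) (ε : A ⟶ Z.obj.left), IsIso ε ∧ ε ≫ q.hom.left = o :=
  ⟨EtOver.mk ((yon S).map o ≫ E.obj.hom) ((AlgSp.repWith_isMultiplicative (S := S) @Etale).comp_mem _ _
      ((AlgSp.repWith_yon_map_iff _ _).2 ho) E.property), EtOver.homMk o rfl, 𝟙 A, inferInstance,
    Category.id_comp _⟩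

variable {U V W UV : Sp S} {j : U ⟶ W} {f : V ⟶ W} {p : UV ⟶ U} {q : UV ⟶ V}
  {πW : W ⟶ X} {πU : U ⟶ X} {πV : V ⟶ X} {πP : UV ⟶ X}
  (hj : j ≫ πW = πU) (hf : f ≫ πW = πV) (hp : p ≫ πU = πP) (hq : q ≫ πV = πP)
  (hsq : IsElemDistSq j f) (hP : IsPullback p q j f)
  {T : Over S} (e : (yon S).obj T ≅ V) (hV : IsAlgSpace V) (hW : IsAlgSpace W)

include hsq e in
/-- Maps into the space lift to one of the parts locally. -/
theorem exists_piece {E : EtOver X} (g : (yon S).obj E.obj.left ⟶ W) (x : E.obj.left.left) :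
    ∃ (Z : EtOver X) (k : Z ⟶ E), x ∈ Set.range k.hom.left.left ∧
      ((∃ c : (yon S).obj Z.obj.left ⟶ U, c ≫ j = (yon S).map k.hom.left ≫ g) ∨
        ∃ a : (yon S).obj Z.obj.left ⟶ V, a ≫ f = (yon S).map k.hom.left ≫ g) := by
  have fin : ∀ {A : Over S} (o : A ⟶ E.obj.left) (ho : Etale o.left) {Q : Sp S} (l : Q ⟶ W)
      (c : (yon S).obj A ⟶ Q) (hc : c ≫ l = (yon S).map o ≫ g) (hx : x ∈ Set.range o.left),
      ∃ (Z : EtOver X) (k : Z ⟶ E), x ∈ Set.range k.hom.left.left ∧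
        ∃ c : (yon S).obj Z.obj.left ⟶ Q, c ≫ l = (yon S).map k.hom.left ≫ g := by
    intro A o ho Q l c hc hx
    obtain ⟨y, hy⟩ := hx
    obtain ⟨Z, k, ε, hε, he⟩ := exists_etale_obj E o ho
    haveI := hε
    refine ⟨Z, k, ⟨ε.left y, (congrArg (fun m => m.left y) he).trans hy⟩, (yon S).map (inv ε) ≫ c, ?_⟩
    rw [Category.assoc, hc, ← he, ← Category.assoc, ← Functor.map_comp, IsIso.inv_hom_id_assoc]
  have hfe : RepWith @Etale (e.hom ≫ f) :=
    hsq.2.1 e.hom (MorphismProperty.of_isIso (RepWith (S := S) @Etale) e.hom)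
  rcases Groth.Agent.Lib.AlgSpEDS.mem_range_or hsq (Points.ofPt g x) with hx | hx
  · obtain ⟨A, o, c, sq, ho⟩ := repWith_exists hsq.1 g
    have hx' : x ∈ Points.ofPt g ⁻¹' (Points.map j '' Set.univ) := by rw [Set.image_univ]; exact hx
    rw [preimage_image_map sq] at hx'
    obtain ⟨y, -, hy⟩ := hx'
    haveI : IsOpenImmersion o.left := ho
    obtain ⟨Z, k, hk, c', hc'⟩ := fin o inferInstance j c sq.w ⟨y, hy⟩
    exact ⟨Z, k, hk, Or.inl ⟨c', hc'⟩⟩
  · obtain ⟨A, o, c, sq, ho⟩ := repWith_exists hfe g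
    have hx' : x ∈ Points.ofPt g ⁻¹' (Points.map (e.hom ≫ f) '' Set.univ) := by
      obtain ⟨v, hv⟩ := hx
      exact ⟨Points.map e.inv v, trivial, by rw [← Points.map_comp, Iso.inv_hom_id_assoc, hv]⟩
    rw [preimage_image_map sq] at hx'
    obtain ⟨y, -, hy⟩ := hx'
    obtain ⟨Z, k, hk, c', hc'⟩ := fin o ho f (c ≫ e.hom) (by rw [Category.assoc, sq.w]) ⟨y, hy⟩
    exact ⟨Z, k, hk, Or.inr ⟨c', hc'⟩⟩

include hsq hV hW in
/-- Two lifts to the étale part agree locally or come from the open part. -/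
theorem exists_piece_eq {E : EtOver X} (a a' : (yon S).obj E.obj.left ⟶ V) (h : a ≫ f = a' ≫ f)
    (x : E.obj.left.left) :
    ∃ (Z : EtOver X) (k : Z ⟶ E), x ∈ Set.range k.hom.left.left ∧
      ((yon S).map k.hom.left ≫ a = (yon S).map k.hom.left ≫ a' ∨
        ∃ c : (yon S).obj Z.obj.left ⟶ U, c ≫ j = (yon S).map k.hom.left ≫ a ≫ f) := by
  have hd := Groth.Agent.Lib.AlgSpEDS.isOpenImmersion_diagonal hV hW hsq.2.1
  obtain ⟨hjo, -, T₀, P, i, p₁, p₂, ⟨-, hr, -⟩, sqi, _⟩ := hsq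
  by_cases hx : Points.ofPt (a ≫ f) x ∈ Set.range (Points.map j)
  · obtain ⟨A, o, c, sq, ho⟩ := repWith_exists hjo (a ≫ f)
    have hx' : x ∈ Points.ofPt (a ≫ f) ⁻¹' (Points.map j '' Set.univ) := by rw [Set.image_univ]; exact hx
    rw [preimage_image_map sq] at hx'
    obtain ⟨y, -, hy⟩ := hx'
    haveI : IsOpenImmersion o.left := ho
    obtain ⟨Z, k, ε, hε, he⟩ := exists_etale_obj E o inferInstance
    haveI := hε
    refine ⟨Z, k, ⟨ε.left y, (congrArg (fun m => m.left y) he).trans hy⟩,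
      Or.inr ⟨(yon S).map (inv ε) ≫ c, ?_⟩⟩
    rw [Category.assoc, sq.w, ← he, ← Category.assoc, ← Functor.map_comp, IsIso.inv_hom_id_assoc]
  · obtain ⟨t₀, ht₀⟩ : Points.ofPt (a ≫ f) x ∈ Set.range (Points.map i) := by rw [hr]; exact hx
    let ρ := pullback.lift a a' h
    obtain ⟨A, o, c, sq, ho⟩ := repWith_exists hd ρ
    have sqk : IsPullback (inv p₁ ≫ p₂) (𝟙 T₀) f i :=
      (IsPullback.of_iso sqi.flip (asIso p₁) (Iso.refl _) (Iso.refl _) (Iso.refl _)
        (by simp) (by simp) (by simp) (by simp))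
    have hx' : x ∈ Points.ofPt ρ ⁻¹' (Points.map (pullback.diagonal f) '' Set.univ) := by
      rw [Set.image_univ]
      refine Groth.Agent.Lib.AlgSpTopInv.mem_range_diagonal sqk _ ⟨t₀, ?_⟩
      rw [Points.map_ofPt, ht₀]
      congr 1
      exact (pullback.lift_fst_assoc _ _ _ _).symm
    rw [preimage_image_map sq] at hx'
    obtain ⟨y, -, hy⟩ := hx'
    haveI : IsOpenImmersion o.left := ho
    obtain ⟨Z, k, ε, hε, he⟩ := exists_etale_obj E o inferInstance
    haveI := hε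
    refine ⟨Z, k, ⟨ε.left y, (congrArg (fun m => m.left y) he).trans hy⟩, Or.inl ?_⟩
    have e1 := congr($(sq.w) ≫ pullback.fst f f)
    have e2 := congr($(sq.w) ≫ pullback.snd f f)
    simp only [Category.assoc, pullback.diagonal_fst, pullback.diagonal_snd, Category.comp_id, ρ,
      pullback.lift_fst, pullback.lift_snd] at e1 e2
    rw [← cancel_epi ((yon S).map ε), ← Category.assoc, ← Category.assoc, ← Functor.map_comp, he,
      ← e1, ← e2]

/-- Gluing along a functional relation. -/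
theorem exists_glue_rel {F : AbEt X} (E : EtOver X)
    (R : ∀ Z : EtOver X, (Z ⟶ E) → F.obj.obj (op Z) → Prop)
    (hst : ∀ {Z Z' : EtOver X} (k : Z' ⟶ Z) {l : Z ⟶ E} {s : F.obj.obj (op Z)},
      R Z l s → R Z' (k ≫ l) (F.obj.map k.op s))
    (huniq : ∀ {Z : EtOver X} {l : Z ⟶ E} {s s' : F.obj.obj (op Z)}, R Z l s → R Z l s' → s = s')
    (hcov : ∀ x : E.obj.left.left, ∃ (Z : EtOver X) (l : Z ⟶ E) (s : F.obj.obj (op Z)),
      R Z l s ∧ x ∈ Set.range l.hom.left.left) :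
    ∃ t : F.obj.obj (op E), ∀ (Z : EtOver X) (l : Z ⟶ E) (s : F.obj.obj (op Z)),
      R Z l s → F.obj.map l.op t = s := by
  choose C g s hR hg using hcov
  obtain ⟨t, ht⟩ := QCohVanish.abEt_exists_glue F C g (fun x => ⟨x, hg x⟩) s fun i i' W' a b hab => by
    have h₁ := hst a (hR i)
    rw [hab] at h₁
    exact huniq h₁ (hst b (hR i'))
  refine ⟨t, fun Z l s' h' => ?_⟩
  refine QCohVanish.abEt_eq_of_cover F (fun x => EtOver.pullbackObj l (g x))
    (fun x => EtOver.pullbackFst l (g x)) (fun z => ?_) fun x => ?_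
  · obtain ⟨v, hv⟩ := Lib.EtMod.exists_pullbackFst_preimage l (g (l.hom.left.left z)) (hg _)
    exact ⟨l.hom.left.left z, v, hv⟩
  · have h₁ := hst (EtOver.pullbackFst l (g x)) h'
    rw [EtOver.pullback_condition] at h₁
    rw [← ConcreteCategory.comp_apply, ← Functor.map_comp, ← op_comp, EtOver.pullback_condition,
      op_comp, Functor.map_comp, ConcreteCategory.comp_apply, ht]
    exact huniq (hst (EtOver.pullbackSnd l (g x)) (hR x)) h₁

include hsq hP e hV hW in
/-- Families on the parts agreeing on the overlap glue uniquely. -/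
theorem existsUnique_fam {F : AbEt X} (a : Fam πU F) (b : Fam πV F)
    (hab : a.comap p hp = b.comap q hq) :
    ∃! c : Fam πW F, c.comap j hj = a ∧ c.comap f hf = b := by
  haveI : Mono j := mono_of_repWith (P := @IsOpenImmersion)
    (fun _ _ g (_ : IsOpenImmersion g) ↦ (inferInstance : Mono g)) hsq.1
  have hmix : ∀ {E : EtOver X} (c : (hPsh πU).obj (op E)) (v : (hPsh πV).obj (op E)),
      c.1 ≫ j = v.1 ≫ f → a.app E c = b.app E v := fun {E} c v h => by
    let l : (hPsh πP).obj (op E) := ⟨hP.lift c.1 v.1 h, by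
      rw [← hp, ← Category.assoc, hP.lift_fst]; exact c.2⟩
    have h' : a.app E ⟨l.1 ≫ p, _⟩ = b.app E ⟨l.1 ≫ q, _⟩ := congrArg (fun z => z.app E l) hab
    refine (a.congr ?_).trans (h'.trans (b.congr ?_))
    · exact (hP.lift_fst _ _ _).symm
    · exact hP.lift_snd _ _ _
  have hUu : ∀ {E : EtOver X} (c c' : (hPsh πU).obj (op E)), c.1 ≫ j = c'.1 ≫ j → a.app E c = a.app E c' :=
    fun c c' h => a.congr ((cancel_mono j).1 h)
  have hVu : ∀ {E : EtOver X} (v v' : (hPsh πV).obj (op E)), v.1 ≫ f = v'.1 ≫ f → b.app E v = b.app E v' :=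
    fun {E} v v' h => by
    choose Z k hk hZ using exists_piece_eq hsq hV hW v.1 v'.1 h
    refine QCohVanish.abEt_eq_of_cover F Z k (fun x => ⟨x, hk x⟩) fun x => ?_
    rw [← b.naturality, ← b.naturality]
    rcases hZ x with h' | ⟨c, hc⟩
    · exact b.congr h'
    · let c' : (hPsh πU).obj (op (Z x)) := ⟨c, by
        rw [← hj, ← Category.assoc, hc, Category.assoc, Category.assoc, hf, v.2]
        exact EtOver.w (k x)⟩
      refine (hmix c' ((hPsh πV).map (k x).op v) (hc.trans (Category.assoc _ _ _).symm)).symm.trans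
        (hmix c' ((hPsh πV).map (k x).op v') ?_)
      rw [hc, h]
      exact (Category.assoc _ _ _).symm
  let R : ∀ (E : EtOver X) (g : (hPsh πW).obj (op E)) (Z : EtOver X), (Z ⟶ E) → F.obj.obj (op Z) → Prop :=
    fun E g Z l s => (∃ c : (hPsh πU).obj (op Z), c.1 ≫ j = (yon S).map l.hom.left ≫ g.1 ∧ a.app Z c = s) ∨
      ∃ v : (hPsh πV).obj (op Z), v.1 ≫ f = (yon S).map l.hom.left ≫ g.1 ∧ b.app Z v = s
  have hst : ∀ (E : EtOver X) (g : (hPsh πW).obj (op E)) {Z Z' : EtOver X} (k : Z' ⟶ Z) {l : Z ⟶ E}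
      {s : F.obj.obj (op Z)}, R E g Z l s → R E g Z' (k ≫ l) (F.obj.map k.op s) := by
    intro E g Z Z' k l s hR
    have hkl : ∀ {Q : Sp S} {m : Q ⟶ W} {c : (yon S).obj Z.obj.left ⟶ Q},
        c ≫ m = (yon S).map l.hom.left ≫ g.1 →
        ((yon S).map k.hom.left ≫ c) ≫ m = (yon S).map (k ≫ l).hom.left ≫ g.1 := fun {Q m c} hc => by
      rw [Category.assoc, hc, ← Category.assoc, ← Functor.map_comp]
      rfl
    rcases hR with ⟨c, hc, rfl⟩ | ⟨v, hv, rfl⟩
    · exact Or.inl ⟨(hPsh πU).map k.op c, hkl hc, a.naturality k c⟩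
    · exact Or.inr ⟨(hPsh πV).map k.op v, hkl hv, b.naturality k v⟩
  have huniq : ∀ (E : EtOver X) (g : (hPsh πW).obj (op E)) {Z : EtOver X} {l : Z ⟶ E}
      {s s' : F.obj.obj (op Z)}, R E g Z l s → R E g Z l s' → s = s' := by
    intro E g Z l s s' hR hR'
    rcases hR with ⟨c, hc, rfl⟩ | ⟨v, hv, rfl⟩ <;> rcases hR' with ⟨c', hc', rfl⟩ | ⟨v', hv', rfl⟩
    · exact hUu c c' (hc.trans hc'.symm)
    · exact hmix c v' (hc.trans hv'.symm)
    · exact (hmix c' v (hc'.trans hv.symm)).symm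
    · exact hVu v v' (hv.trans hv'.symm)
  have hcov : ∀ (E : EtOver X) (g : (hPsh πW).obj (op E)) (x : E.obj.left.left),
      ∃ (Z : EtOver X) (l : Z ⟶ E) (s : F.obj.obj (op Z)), R E g Z l s ∧ x ∈ Set.range l.hom.left.left := by
    intro E g x
    obtain ⟨Z, k, hx, ⟨c, hc⟩ | ⟨v, hv⟩⟩ := exists_piece hsq e g.1 x
    · let c' : (hPsh πU).obj (op Z) := ⟨c, by
        rw [← hj, ← Category.assoc, hc, Category.assoc, g.2]; exact EtOver.w k⟩
      exact ⟨Z, k, _, Or.inl ⟨c', hc, rfl⟩, hx⟩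
    · let v' : (hPsh πV).obj (op Z) := ⟨v, by
        rw [← hf, ← Category.assoc, hv, Category.assoc, g.2]; exact EtOver.w k⟩
      exact ⟨Z, k, _, Or.inr ⟨v', hv, rfl⟩, hx⟩
  choose t ht using fun (E : EtOver X) (g : (hPsh πW).obj (op E)) =>
    exists_glue_rel E (R E g) (hst E g) (huniq E g) (hcov E g)
  let c : Fam πW F :=
    { app := t
      naturality := fun {E E'} k g => by
        choose Z l s hR hl using hcov E' ((hPsh πW).map k.op g)
        refine QCohVanish.abEt_eq_of_cover F Z l (fun x => ⟨x, hl x⟩) fun x => ?_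
        rw [ht E' _ _ _ _ (hR x), ← ConcreteCategory.comp_apply, ← Functor.map_comp, ← op_comp]
        refine (ht E g _ (l x ≫ k) _ ?_).symm
        have hk : (yon S).map (l x).hom.left ≫ ((hPsh πW).map k.op g).1 =
            (yon S).map (l x ≫ k).hom.left ≫ g.1 :=
          (Category.assoc _ _ _).symm.trans (congrArg (· ≫ g.1) ((yon S).map_comp _ _).symm)
        rcases hR x with ⟨c, hc, hs⟩ | ⟨v, hv, hs⟩
        · exact Or.inl ⟨c, hc.trans hk, hs⟩
        · exact Or.inr ⟨v, hv.trans hk, hs⟩ }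
  have hid : ∀ {E : EtOver X} {Q : Sp S} (g : (yon S).obj E.obj.left ⟶ Q),
      g = (yon S).map (𝟙 E : E ⟶ E).hom.left ≫ g := fun {E Q} g =>
    ((congrArg (· ≫ g) ((yon S).map_id _)).trans (Category.id_comp g)).symm
  refine ⟨c, ⟨Fam.ext (funext fun E => funext fun g => ?_), Fam.ext (funext fun E => funext fun g => ?_)⟩,
    fun c' ⟨hca, hcb⟩ => ?_⟩
  · have h := ht E ((hMap j hj).app (op E) g) E (𝟙 E) (a.app E g) (Or.inl ⟨g, hid _, rfl⟩)
    rw [op_id, CategoryTheory.Functor.map_id] at h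
    exact h
  · have h := ht E ((hMap f hf).app (op E) g) E (𝟙 E) (b.app E g) (Or.inr ⟨g, hid _, rfl⟩)
    rw [op_id, CategoryTheory.Functor.map_id] at h
    exact h
  · ext E g
    choose Z l s hR hl using hcov E g
    refine QCohVanish.abEt_eq_of_cover F Z l (fun x => ⟨x, hl x⟩) fun x => ?_
    refine Eq.trans ?_ (ht E g _ _ _ (hR x)).symm
    rw [← c'.naturality]
    rcases hR x with ⟨u, hu, hs⟩ | ⟨v, hv, hs⟩
    · exact ((c'.congr hu.symm).trans (congrArg (fun z => z.app (Z x) u) hca)).trans hs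
    · exact ((c'.congr hv.symm).trans (congrArg (fun z => z.app (Z x) v) hcb)).trans hs

include hsq hP e hV hW in
/-- The Mayer-Vietoris sequence of free sheaves. -/
theorem shortExact_Z :
    ∃ h : biprod.lift (ZMap p hp) (-(ZMap q hq)) ≫ biprod.desc (ZMap j hj) (ZMap f hf) = 0,
      (ShortComplex.mk _ _ h).ShortExact := by
  haveI : Mono j := mono_of_repWith (P := @IsOpenImmersion)
    (fun _ _ g (_ : IsOpenImmersion g) ↦ (inferInstance : Mono g)) hsq.1
  haveI : Mono q := ⟨fun a b h => hP.hom_ext ((cancel_mono j).1 (by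
    rw [Category.assoc, Category.assoc, hP.w, ← Category.assoc, h, Category.assoc])) h⟩
  haveI := mono_ZMap q hq
  have hw : biprod.lift (ZMap p hp) (-(ZMap q hq)) ≫ biprod.desc (ZMap j hj) (ZMap f hf) = 0 := by
    rw [biprod.lift_desc, Preadditive.neg_comp, ← sub_eq_add_neg, sub_eq_zero]
    refine (famEquiv πP _).injective ?_
    rw [famEquiv_ZMap, famEquiv_ZMap]
    ext E g
    change (famEquiv πU _ (ZMap j hj)).app E _ = (famEquiv πV _ (ZMap f hf)).app E _
    rw [← Category.comp_id (ZMap j hj), ← Category.comp_id (ZMap f hf), famEquiv_ZMap, famEquiv_ZMap]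
    refine (famEquiv πW _ (𝟙 _)).congr ?_
    change (g.1 ≫ p) ≫ j = (g.1 ≫ q) ≫ f
    rw [Category.assoc, Category.assoc, hP.w]
  refine ⟨hw, ?_⟩
  have hmono : Mono (biprod.lift (ZMap p hp) (-(ZMap q hq))) :=
    mono_of_mono_fac (show biprod.lift (ZMap p hp) (-(ZMap q hq)) ≫ (-biprod.snd) = ZMap q hq by rw [Preadditive.comp_neg, biprod.lift_snd, neg_neg])
  have hfac : ∀ {F : AbEt X} (k : Z πU ⊞ Z πV ⟶ F), biprod.lift (ZMap p hp) (-(ZMap q hq)) ≫ k = 0 →
      ∃! h : Z πW ⟶ F, biprod.desc (ZMap j hj) (ZMap f hf) ≫ h = k := fun {F} k hk => by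
    have hk' : k = biprod.desc (biprod.inl ≫ k) (biprod.inr ≫ k) :=
      biprod.hom_ext' _ _ (biprod.inl_desc _ _).symm (biprod.inr_desc _ _).symm
    rw [hk', biprod.lift_desc, Preadditive.neg_comp, ← sub_eq_add_neg, sub_eq_zero] at hk
    obtain ⟨c, ⟨hc₁, hc₂⟩, hc₃⟩ := existsUnique_fam hj hf hp hq hsq hP e hV hW
      (famEquiv πU F (biprod.inl ≫ k)) (famEquiv πV F (biprod.inr ≫ k))
      (by rw [← famEquiv_ZMap, ← famEquiv_ZMap, hk])
    refine ⟨(famEquiv πW F).symm c, biprod.hom_ext' _ _ ?_ ?_, fun h hh => ?_⟩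
    · refine (famEquiv πU F).injective ?_
      rw [biprod.inl_desc_assoc, famEquiv_ZMap, Equiv.apply_symm_apply, hc₁]
    · refine (famEquiv πV F).injective ?_
      rw [biprod.inr_desc_assoc, famEquiv_ZMap, Equiv.apply_symm_apply, hc₂]
    · rw [Equiv.eq_symm_apply]
      exact hc₃ _ ⟨by rw [← famEquiv_ZMap, ← hh, biprod.inl_desc_assoc],
        by rw [← famEquiv_ZMap, ← hh, biprod.inr_desc_assoc]⟩
  exact
    { exact := ShortComplex.exact_of_g_is_cokernel _ (CokernelCofork.IsColimit.ofπ _ _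
        (fun k hk => (hfac k hk).choose) (fun k hk => (hfac k hk).choose_spec.1)
        (fun k hk m hm => (hfac k hk).choose_spec.2 m hm))
      mono_f := hmono
      epi_g := ⟨fun h₁ h₂ he => (hfac _ (by rw [← Category.assoc, hw, zero_comp])).unique rfl he.symm⟩ }

end Groth.Agent.H8.SpaceMV
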